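import Mathlib
import Cfsg.Agent.H29.Fi23T
import Cfsg.Agent.H29.Cert
import Cfsg.Agent.H29.Fi23X.D0

set_option autoImplicit false
set_option maxRecDepth 100000
set_option Elab.async false
set_option linter.all false

namespace H29.Fi23X

noncomputable def ly : List Net := [x10, x12, x14, x16, x18, x20, x22, x24, x26, x28, x30, x32]
noncomputable def nx : ℕ → Net := nth Net.nil (Fi23T.nl ++ dbl ly)
def ivx : List ℕ := [0, 1, 2, 3, 4, 5, 6, 7, 8, 9, 11, 10, 13, 12, 15, 14, 17, 16, 19, 18, 21, 20, 23, 22, 25, 24, 27, 26, 29, 28, 31, 30, 33, 32]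
def defs : List (List ℕ) := [[6, 5, 1, 3, 7, 2, 5, 6, 3, 1, 7],
 [6, 11, 6, 4, 7, 11, 3, 10, 8, 1, 10],
 [10, 12, 12, 12, 11, 12, 12, 11, 12, 12, 11, 12, 10, 12, 10, 10, 12],
 [12, 15, 12, 12, 11, 11, 11, 15, 15, 11, 13, 13, 15, 13, 15],
 [7, 3, 2, 4, 13, 5, 13, 5, 2, 3, 7],
 [12, 19, 12, 12, 17, 15, 15, 15, 16, 13, 13, 18, 13],
 [13, 15, 21, 12, 11, 11, 6, 0, 8, 18, 6, 19, 15, 6, 4, 10, 2],
 [23, 21, 22, 22, 10, 12, 12, 15, 19, 6, 8, 6, 19, 23, 1, 17, 10, 10, 16, 1, 5, 4],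
 [15, 21, 25, 22, 15, 22, 25, 12, 12, 19, 21, 13, 6, 21, 24, 0, 21, 5, 18, 24, 12, 4, 2, 1, 5, 6, 5],
 [23, 23, 23, 15, 12, 18, 23, 10, 18, 11, 18, 14, 26, 26, 16, 18, 13, 26, 25, 11],
 [9, 6, 5, 4, 3, 2, 7, 3, 4, 5, 6, 9],
 [26, 25, 13, 11, 9, 28, 12, 24, 7, 6, 11]]
theorem hext : chkExt 10 defs Fi23T.ivl ivx = true := by decide +kernel
theorem hn : NetsOK 31671 nx := netsOK_ext Fi23T.hn (by decide +kernel)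
theorem hiv : IvOK (sg nx) (ivOf ivx) := ivOK_ext Fi23T.hiv hext rfl rfl
def E0 : List (List ℕ) := [[11, 6, 5, 1, 3, 7, 2, 5, 6, 3, 1, 7], [13, 6, 11, 6, 4, 7, 11, 3, 10, 8, 1, 10], [15, 10, 12, 12, 12, 11, 12, 12, 11, 12, 12, 11, 12, 10, 12, 10, 10, 12], [17, 12, 15, 12, 12, 11, 11, 11, 15, 15, 11, 13, 13, 15, 13, 15], [19, 7, 3, 2, 4, 13, 5, 13, 5, 2, 3, 7], [21, 12, 19, 12, 12, 17, 15, 15, 15, 16, 13, 13, 18, 13], [23, 13, 15, 21, 12, 11, 11, 6, 0, 8, 18, 6, 19, 15, 6, 4, 10, 2], [25, 23, 21, 22, 22, 10, 12, 12, 15, 19, 6, 8, 6, 19, 23, 1, 17, 10, 10, 16, 1, 5, 4], [27, 15, 21, 25, 22, 15, 22, 25, 12, 12, 19, 21, 13, 6, 21, 24, 0, 21, 5, 18, 24, 12, 4, 2, 1, 5, 6, 5], [29, 23, 23, 23, 15, 12, 18, 23, 10, 18, 11, 18, 14, 26, 26, 16, 18, 13, 26, 25, 11], [31, 9, 6, 5, 4, 3, 2, 7, 3, 4, 5, 6, 9], [33, 26, 25, 13,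 11, 9, 28, 12, 24, 7, 6, 11]]

end H29.Fi23X
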