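import Mathlib
import Cfsg.Agent.H29.Fi23X.B

set_option autoImplicit false
set_option maxRecDepth 100000
set_option Elab.async false
set_option linter.all false

namespace H29.Fi23X

theorem e0_0 : chkRelP 31671 15 nx (ivOf ivx) E0 0 = true := by decide +kernel

theorem e0_1 : chkRelP 31671 15 nx (ivOf ivx) E0 1 = true := by decide +kernel

theorem e0_2 : chkRelP 31671 15 nx (ivOf ivx) E0 2 = true := by decide +kernel

theorem e0_3 : chkRelP 31671 15 nx (ivOf ivx) E0 3 = true := by decide +kernel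

theorem e0_4 : chkRelP 31671 15 nx (ivOf ivx) E0 4 = true := by decide +kernel

theorem e0_5 : chkRelP 31671 15 nx (ivOf ivx) E0 5 = true := by decide +kernel

theorem e0_6 : chkRelP 31671 15 nx (ivOf ivx) E0 6 = true := by decide +kernel

theorem e0_7 : chkRelP 31671 15 nx (ivOf ivx) E0 7 = true := by decide +kernel

theorem e0_8 : chkRelP 31671 15 nx (ivOf ivx) E0 8 = true := by decide +kernel

theorem e0_9 : chkRelP 31671 15 nx (ivOf ivx) E0 9 = true := by decide +kernel

theorem e0_10 : chkRelP 31671 15 nx (ivOf ivx) E0 10 = true := by decide +kernel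

theorem e0_11 : chkRelP 31671 15 nx (ivOf ivx) E0 11 = true := by decide +kernel

theorem e0_12 : chkRelP 31671 15 nx (ivOf ivx) E0 12 = true := by decide +kernel

theorem e0_13 : chkRelP 31671 15 nx (ivOf ivx) E0 13 = true := by decide +kernel

theorem e0_14 : chkRelP 31671 15 nx (ivOf ivx) E0 14 = true := by decide +kernel

theorem ch : chkChain 31671 15 nx [(0, 4, 31671, [0, 1, 2, 3, 4, 5, 6, 7, 8, 10, 12, 14, 16, 18, 20, 22, 24, 26, 28]),
 (1, 3, 28160, [10, 12, 14, 16, 18, 20, 22, 24, 26, 28]),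
 (24996, 3, 21840, [14, 16, 20, 22, 24, 26, 28]),
 (23890, 4, 7776, [24, 26, 28]),
 (24903, 2, 27, [])] [0, 1, 2, 3, 4, 5, 6, 7, 8, 9, 10, 12, 14, 16, 18, 20, 22, 24, 26, 28] = true := by decide +kernel

theorem prim : Prim nx 31671 [0, 1, 2, 3, 4, 5, 6, 7, 8] [9, 30] := prim_of_chk (r1 := 12) (r2 := 12) hn (by decide +kernel)

theorem wit : ∀ r ∈ [powW 23 [32], powW 2 [1], powW 13 [32, 1]], ev (sg nx) r = 1 :=
  rels_of_chk (k := 15) hn (by decide) hiv (allN_true.1 (by decide +kernel))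

theorem orb28160_0 : chkOrbit 15 nx [0, 1, 2, 3, 4, 5, 6, 7, 8] 1 12 28160 = true := by decide +kernel

theorem orb3510_1 : chkOrbit 15 nx [0, 1, 2, 3, 4, 5, 6, 7, 8] 279 6 3510 = true := by decide +kernel

end H29.Fi23X
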